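import Mathlib

set_option autoImplicit false

namespace Cfsg.Agent.Helper9.Trv

abbrev M5 := Matrix (Fin 5) (Fin 5) (ZMod 2)
abbrev SL5 := Matrix.SpecialLinearGroup (Fin 5) (ZMod 2)

theorem zmod2_eq_one : ∀ x : ZMod 2, x ≠ 0 → x = 1 := by decide

/-- Entry consequences of commuting with an elementary transvection. -/
theorem comm_transv {a b : Fin 5} (M : M5)
    (h : Matrix.transvection a b 1 * M = M * Matrix.transvection a b 1) :
    (∀ y, y ≠ b → M b y = 0) ∧ (∀ x, x ≠ a → M x a = 0) ∧ M b b = M a a := by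
  refine ⟨fun y hy => ?_, fun x hx => ?_, ?_⟩
  · have h1 := congrFun (congrFun h a) y
    rw [Matrix.transvection_mul_apply_same, Matrix.mul_transvection_apply_of_ne a b a y hy] at h1
    simpa using h1
  · have h1 := congrFun (congrFun h x) b
    rw [Matrix.transvection_mul_apply_of_ne a b x b hx, Matrix.mul_transvection_apply_same] at h1
    simpa using h1.symm
  · have h1 := congrFun (congrFun h a) b
    rw [Matrix.transvection_mul_apply_same, Matrix.mul_transvection_apply_same] at h1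
    simpa using h1

/-- The explicit shape of elements of the normal subgroup. -/
def mat7 (a b c d e f g : ZMod 2) : M5 :=
  !![1, a, b, c, d; 0, 1, 0, 0, 0; 0, e, 1, 0, 0; 0, f, 0, 1, 0; 0, g, 0, 0, 1]

theorem mat7_pow : ∀ a b c d e f g : ZMod 2, mat7 a b c d e f g ^ 4 = 1 := by
  decide +kernel

theorem mem_cent_self (s : SL5) : s ∈ Subgroup.centralizer ({s} : Set SL5) :=
  Subgroup.mem_centralizer_iff.mpr (fun h hh => by rw [Set.mem_singleton_iff.mp hh])

theorem cent_comm (s : SL5) (hs : (s : M5) = Matrix.transvection 0 1 1) (g : SL5)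
    (hg : g ∈ Subgroup.centralizer ({s} : Set SL5)) :
    Matrix.transvection 0 1 1 * (g : M5) = (g : M5) * Matrix.transvection 0 1 1 := by
  have h := Subgroup.mem_centralizer_iff.mp hg s rfl
  have h2 := congrArg (fun x : SL5 => (x : M5)) h
  simp only [Matrix.SpecialLinearGroup.coe_mul, hs] at h2
  exact h2

theorem cent_facts (s : SL5) (hs : (s : M5) = Matrix.transvection 0 1 1) (g : SL5)
    (hg : g ∈ Subgroup.centralizer ({s} : Set SL5)) :
    (∀ y, y ≠ 1 → (g : M5) 1 y = 0) ∧ (∀ x, x ≠ 0 → (g : M5) x 0 = 0) ∧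
      (g : M5) 0 0 = 1 ∧ (g : M5) 1 1 = 1 := by
  obtain ⟨h1, h2, h3⟩ := comm_transv (g : M5) (cent_comm s hs g hg)
  have h00 : (g : M5) 0 0 = 1 := by
    apply zmod2_eq_one
    intro h0
    have hdet : (g : M5).det = 0 := by
      apply Matrix.det_eq_zero_of_column_eq_zero 0
      intro i
      by_cases hi : i = 0
      · rw [hi]; exact h0
      · exact h2 i hi
    rw [g.2] at hdet
    exact one_ne_zero hdet
  exact ⟨h1, h2, h00, by rw [h3, h00]⟩

def fmid : Fin 3 → Fin 5 := ![2, 3, 4]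

theorem fmid_ne0 : ∀ i, fmid i ≠ 0 := by decide
theorem fmid_ne1 : ∀ i, fmid i ≠ 1 := by decide
theorem fmid_inj : Function.Injective fmid := by decide

/-- The action on the middle section, as a monoid homomorphism to 3 × 3 matrices. -/
def midHom (s : SL5) (hs : (s : M5) = Matrix.transvection 0 1 1) :
    ↥(Subgroup.centralizer ({s} : Set SL5)) →* Matrix (Fin 3) (Fin 3) (ZMod 2) where
  toFun g := ((g : SL5) : M5).submatrix fmid fmid
  map_one' := by
    simp only [OneMemClass.coe_one, Matrix.SpecialLinearGroup.coe_one]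
    exact Matrix.submatrix_one fmid fmid_inj
  map_mul' g h := by
    obtain ⟨_, hg0, _, _⟩ := cent_facts s hs g.1 g.2
    obtain ⟨hh1, _, _, _⟩ := cent_facts s hs h.1 h.2
    ext i j
    simp only [Subgroup.coe_mul, Matrix.SpecialLinearGroup.coe_mul, Matrix.submatrix_apply,
      Matrix.mul_apply, Fin.sum_univ_five, Fin.sum_univ_three]
    rw [hg0 (fmid i) (fmid_ne0 i), hh1 (fmid j) (fmid_ne1 j)]
    simp [fmid]

theorem shape (G : M5) (hrow1 : ∀ y, y ≠ 1 → G 1 y = 0) (hcol0 : ∀ x, x ≠ 0 → G x 0 = 0)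
    (h00 : G 0 0 = 1) (h11 : G 1 1 = 1)
    (hmid : G.submatrix fmid fmid = 1) :
    G = mat7 (G 0 1) (G 0 2) (G 0 3) (G 0 4) (G 2 1) (G 3 1) (G 4 1) := by
  have m (i j : Fin 3) : G (fmid i) (fmid j) = (1 : Matrix (Fin 3) (Fin 3) (ZMod 2)) i j := by
    rw [← hmid]; rfl
  have m00 : G 2 2 = 1 := by simpa [fmid] using m 0 0
  have m01 : G 2 3 = 0 := by simpa [fmid] using m 0 1
  have m02 : G 2 4 = 0 := by simpa [fmid] using m 0 2
  have m10 : G 3 2 = 0 := by simpa [fmid] using m 1 0
  have m11 : G 3 3 = 1 := by simpa [fmid] using m 1 1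
  have m12 : G 3 4 = 0 := by simpa [fmid] using m 1 2
  have m20 : G 4 2 = 0 := by simpa [fmid] using m 2 0
  have m21 : G 4 3 = 0 := by simpa [fmid] using m 2 1
  have m22 : G 4 4 = 1 := by simpa [fmid] using m 2 2
  have r0 := hrow1 0 (by decide)
  have r2 := hrow1 2 (by decide)
  have r3 := hrow1 3 (by decide)
  have r4 := hrow1 4 (by decide)
  have c1 := hcol0 1 (by decide)
  have c2 := hcol0 2 (by decide)
  have c3 := hcol0 3 (by decide)
  have c4 := hcol0 4 (by decide)
  ext i j
  fin_cases i <;> fin_cases j <;>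
    simp [mat7, m00, m01, m02, m10, m11, m12, m20, m21, m22, r0, r2, r3, r4, c2, c3, c4,
      h00, h11]

theorem mat7_id : mat7 0 0 0 0 0 0 0 = 1 := by decide +kernel
theorem mat7_tv : mat7 1 0 0 0 0 0 0 = Matrix.transvection 0 1 1 := by decide +kernel

/-- Elements of the kernel of the middle action have order dividing 4. -/
theorem ker_pow_four (s : SL5) (hs : (s : M5) = Matrix.transvection 0 1 1)
    (g : ↥(Subgroup.centralizer ({s} : Set SL5))) (hg : g ∈ (midHom s hs).ker) : g ^ 4 = 1 := by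
  obtain ⟨h1, h2, h3, h4⟩ := cent_facts s hs g.1 g.2
  have hk : ((g : SL5) : M5).submatrix fmid fmid = 1 := MonoidHom.mem_ker.mp hg
  have hsh := shape _ h1 h2 h3 h4 hk
  apply Subtype.ext
  apply Subtype.ext
  simp only [Subgroup.coe_pow, Matrix.SpecialLinearGroup.coe_pow, OneMemClass.coe_one,
    Matrix.SpecialLinearGroup.coe_one]
  rw [hsh]
  exact mat7_pow _ _ _ _ _ _ _

theorem ker_isPGroup (s : SL5) (hs : (s : M5) = Matrix.transvection 0 1 1) :
    IsPGroup 2 ↥(midHom s hs).ker := by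
  intro g
  refine ⟨2, ?_⟩
  apply Subtype.ext
  have := ker_pow_four s hs g.1 g.2
  simpa using this

/-- The six transvections spanning the normal subgroup modulo its centre. -/
def pairs6 : List (Fin 5 × Fin 5) := [(2, 1), (3, 1), (4, 1), (0, 2), (0, 3), (0, 4)]

theorem pairs6_ne : ∀ p ∈ pairs6, p.1 ≠ p.2 := by decide

theorem pairs6_comm : ∀ p ∈ pairs6,
    (Matrix.transvection 0 1 1 : M5) * Matrix.transvection p.1 p.2 1 =
      Matrix.transvection p.1 p.2 1 * Matrix.transvection 0 1 1 := by decide +kernel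

theorem pairs6_mid : ∀ p ∈ pairs6,
    (Matrix.transvection p.1 p.2 1 : M5).submatrix fmid fmid = 1 := by decide +kernel

def tv (p : Fin 5 × Fin 5) (hp : p ∈ pairs6) : SL5 :=
  ⟨Matrix.transvection p.1 p.2 1, Matrix.det_transvection_of_ne p.1 p.2 (pairs6_ne p hp) 1⟩

theorem tv_mem_cent (s : SL5) (hs : (s : M5) = Matrix.transvection 0 1 1)
    (p : Fin 5 × Fin 5) (hp : p ∈ pairs6) : tv p hp ∈ Subgroup.centralizer ({s} : Set SL5) := by
  rw [Subgroup.mem_centralizer_iff]
  intro h hh
  rw [Set.mem_singleton_iff.mp hh]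
  apply Subtype.ext
  simp only [Matrix.SpecialLinearGroup.coe_mul, hs]
  exact pairs6_comm p hp

theorem tv_mem_ker (s : SL5) (hs : (s : M5) = Matrix.transvection 0 1 1)
    (p : Fin 5 × Fin 5) (hp : p ∈ pairs6) :
    (⟨tv p hp, tv_mem_cent s hs p hp⟩ : ↥(Subgroup.centralizer ({s} : Set SL5))) ∈
      (midHom s hs).ker := by
  rw [MonoidHom.mem_ker]
  exact pairs6_mid p hp

/-- An element of the centraliser commuting with the six transvections is `1` or `s`. -/
theorem cent_of_comm (G : M5) (hrow1 : ∀ y, y ≠ 1 → G 1 y = 0) (hcol0 : ∀ x, x ≠ 0 → G x 0 = 0)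
    (h00 : G 0 0 = 1) (h11 : G 1 1 = 1)
    (hc : ∀ p ∈ pairs6, Matrix.transvection p.1 p.2 1 * G = G * Matrix.transvection p.1 p.2 1) :
    G = 1 ∨ G = Matrix.transvection 0 1 1 := by
  obtain ⟨-, a2, a3⟩ := comm_transv G (hc (2, 1) (by decide))
  obtain ⟨-, b2, b3⟩ := comm_transv G (hc (3, 1) (by decide))
  obtain ⟨-, c2, c3⟩ := comm_transv G (hc (4, 1) (by decide))
  obtain ⟨d1, -, d3⟩ := comm_transv G (hc (0, 2) (by decide))
  obtain ⟨e1, -, e3⟩ := comm_transv G (hc (0, 3) (by decide))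
  obtain ⟨f1, -, f3⟩ := comm_transv G (hc (0, 4) (by decide))
  simp only at a2 a3 b2 b3 c2 c3 d1 d3 e1 e3 f1 f3
  have hmid : G.submatrix fmid fmid = 1 := by
    ext i j
    fin_cases i <;> fin_cases j <;>
      simp [fmid, a2 3 (by decide), a2 4 (by decide), b2 2 (by decide), b2 4 (by decide),
        c2 2 (by decide), c2 3 (by decide), ← a3, ← b3, ← c3, h11]
  have hsh := shape G hrow1 hcol0 h00 h11 hmid
  rw [a2 0 (by decide), b2 0 (by decide), c2 0 (by decide), d1 1 (by decide), e1 1 (by decide),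
    f1 1 (by decide)] at hsh
  rcases (show ∀ x : ZMod 2, x = 0 ∨ x = 1 by decide) (G 0 1) with h | h
  · left; rw [hsh, h]; exact mat7_id
  · right; rw [hsh, h]; exact mat7_tv

/-- The model statement: the centraliser of the transvection has a normal 2-subgroup whose
centraliser is `{1, s}`. -/
theorem model (s : SL5) (hs : (s : M5) = Matrix.transvection 0 1 1) :
    ∃ N : Subgroup ↥(Subgroup.centralizer ({s} : Set SL5)), N.Normal ∧ IsPGroup 2 ↥N ∧
      ∀ g : ↥(Subgroup.centralizer ({s} : Set SL5)), (∀ n ∈ N, n * g = g * n) →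
        g = 1 ∨ g = ⟨s, mem_cent_self s⟩ := by
  refine ⟨(midHom s hs).ker, inferInstance, ker_isPGroup s hs, ?_⟩
  intro g hg
  obtain ⟨h1, h2, h3, h4⟩ := cent_facts s hs g.1 g.2
  have hc : ∀ p ∈ pairs6, Matrix.transvection p.1 p.2 1 * ((g : SL5) : M5) =
      ((g : SL5) : M5) * Matrix.transvection p.1 p.2 1 := by
    intro p hp
    have h := hg _ (tv_mem_ker s hs p hp)
    have h' := congrArg (fun x : ↥(Subgroup.centralizer ({s} : Set SL5)) => ((x : SL5) : M5)) h
    simp only [Subgroup.coe_mul, tv] at h'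
    exact h'
  rcases cent_of_comm _ h1 h2 h3 h4 hc with h | h
  · left
    apply Subtype.ext
    apply Subtype.ext
    simpa using h
  · right
    apply Subtype.ext
    apply Subtype.ext
    simp only [hs]
    exact h

end Cfsg.Agent.Helper9.Trv
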