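import Mathlib

set_option autoImplicit false

namespace Cfsg.Agent.Helper9.Trv

theorem mem_cent_self' {G : Type*} [Group G] (z : G) : z ∈ Subgroup.centralizer ({z} : Set G) :=
  Subgroup.mem_centralizer_iff.mpr (fun h hh => by rw [Set.mem_singleton_iff.mp hh])

/-- If the centraliser `C` of an involution `z` has a normal 2-subgroup whose centraliser in `C`
is `{1, z}`, then Sylow 2-subgroups of `C` are Sylow in the whole group. -/
theorem sylow_lift_aux {G : Type*} [Group G] [Finite G] (z : G) (hz : orderOf z = 2)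
    (C : Subgroup G) (hCmem : ∀ x, x ∈ C ↔ z * x = x * z) (hzC : z ∈ C)
    (N : Subgroup ↥C) (hNn : N.Normal) (hN : IsPGroup 2 ↥N)
    (hC : ∀ g : ↥C, (∀ n ∈ N, n * g = g * n) → g = 1 ∨ g = ⟨z, hzC⟩)
    (T : Sylow 2 ↥C) :
    ¬ 2 ∣ ((T : Subgroup ↥C).map C.subtype).index := by
  have : Fact (Nat.Prime 2) := ⟨Nat.prime_two⟩
  have := hNn
  have hz1 : z ≠ 1 := by
    intro h
    rw [h, orderOf_one] at hz
    exact absurd hz (by decide)
  have hNT : N ≤ (T : Subgroup ↥C) := hN.le_sylow_of_normal T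
  have hcentral : ∀ c : ↥C, (⟨z, hzC⟩ : ↥C) * c = c * ⟨z, hzC⟩ := by
    intro c
    apply Subtype.ext
    exact (hCmem c.1).mp c.2
  have hz'T : (⟨z, hzC⟩ : ↥C) ∈ (T : Subgroup ↥C) := by
    have hZn : (Subgroup.zpowers (⟨z, hzC⟩ : ↥C)).Normal := by
      refine ⟨fun n hn g => ?_⟩
      obtain ⟨k, rfl⟩ := Subgroup.mem_zpowers_iff.mp hn
      have hcm : Commute ((⟨z, hzC⟩ : ↥C) ^ k) g := Commute.zpow_left (hcentral g) k
      have : g * (⟨z, hzC⟩ : ↥C) ^ k * g⁻¹ = (⟨z, hzC⟩ : ↥C) ^ k := by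
        rw [← hcm.eq, mul_inv_cancel_right]
      rw [this]
      exact Subgroup.zpow_mem_zpowers _ k
    have hZp : IsPGroup 2 ↥(Subgroup.zpowers (⟨z, hzC⟩ : ↥C)) := by
      apply IsPGroup.of_card (n := 1)
      rw [Nat.card_zpowers, Subgroup.orderOf_mk, hz, pow_one]
    exact hZp.le_sylow_of_normal T (Subgroup.mem_zpowers _)
  have hHC : ∀ h ∈ (T : Subgroup ↥C).map C.subtype, z * h = h * z := by
    intro h hh
    obtain ⟨t, _, rfl⟩ := Subgroup.mem_map.mp hh
    exact (hCmem t.1).mp t.2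
  have hzH : z ∈ (T : Subgroup ↥C).map C.subtype := Subgroup.mem_map.mpr ⟨⟨z, hzC⟩, hz'T, rfl⟩
  have hle : Subgroup.normalizer (((T : Subgroup ↥C).map C.subtype : Subgroup G) : Set G) ≤ C := by
    intro x hx
    have hxinv : x⁻¹ ∈ Subgroup.normalizer
      (((T : Subgroup ↥C).map C.subtype : Subgroup G) : Set G) := inv_mem hx
    have hw : x * z * x⁻¹ ∈ (T : Subgroup ↥C).map C.subtype :=
      (Subgroup.mem_normalizer_iff.mp hx z).mp hzH
    obtain ⟨w', hw'T, hw'⟩ := Subgroup.mem_map.mp hw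
    have hw'' : (w' : G) = x * z * x⁻¹ := hw'
    have hcomm : ∀ n ∈ N, n * w' = w' * n := by
      intro n hn
      apply Subtype.ext
      simp only [Subgroup.coe_mul, hw'']
      have hnH : (n : G) ∈ (T : Subgroup ↥C).map C.subtype :=
        Subgroup.mem_map.mpr ⟨n, hNT hn, rfl⟩
      have h1 : x⁻¹ * (n : G) * x⁻¹⁻¹ ∈ (T : Subgroup ↥C).map C.subtype :=
        (Subgroup.mem_normalizer_iff.mp hxinv _).mp hnH
      rw [inv_inv] at h1
      have h2 := hHC _ h1
      calc (n : G) * (x * z * x⁻¹) = x * (x⁻¹ * (n : G) * x * z) * x⁻¹ := by group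
        _ = x * (z * (x⁻¹ * (n : G) * x)) * x⁻¹ := by rw [h2]
        _ = x * z * x⁻¹ * (n : G) := by group
    rcases hC w' hcomm with h1 | h1
    · exfalso
      rw [h1] at hw''
      have : x * z * x⁻¹ = 1 := hw''.symm
      rw [mul_inv_eq_one] at this
      exact hz1 (mul_left_cancel (this.trans (mul_one x).symm))
    · rw [h1] at hw''
      have hzz : z = x * z * x⁻¹ := hw''
      rw [hCmem]
      calc z * x = x * z * x⁻¹ * x := by rw [← hzz]
        _ = x * z := by group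
  intro h2
  have hH2 : IsPGroup 2 ↥((T : Subgroup ↥C).map C.subtype) := T.isPGroup'.map _
  obtain ⟨n, hn⟩ := hH2.exists_card_eq
  have hdvd : 2 ^ (n + 1) ∣ Nat.card G := by
    rw [← ((T : Subgroup ↥C).map C.subtype).card_mul_index, hn, pow_succ]
    exact Nat.mul_dvd_mul_left _ h2
  have hnorm : 2 ^ (n + 1) ∣ Nat.card ↥(Subgroup.normalizer
      (((T : Subgroup ↥C).map C.subtype : Subgroup G) : Set G)) :=
    Sylow.prime_pow_dvd_card_normalizer hdvd hn
  have hC2 : 2 ^ (n + 1) ∣ Nat.card ↥C := hnorm.trans (Subgroup.card_dvd_of_le hle)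
  have hT : Nat.card ↥(T : Subgroup ↥C) = 2 ^ n := by
    rw [← hn]
    exact (Subgroup.card_map_of_injective (Subgroup.subtype_injective C)).symm
  rw [← (T : Subgroup ↥C).card_mul_index, hT, pow_succ] at hC2
  have h3 : 2 ∣ (T : Subgroup ↥C).index :=
    (Nat.mul_dvd_mul_iff_left (by positivity)).mp hC2
  exact T.not_dvd_index h3

theorem sylow_lift {G : Type*} [Group G] [Finite G] (z : G) (hz : orderOf z = 2)
    (N : Subgroup ↥(Subgroup.centralizer ({z} : Set G))) (hNn : N.Normal) (hN : IsPGroup 2 ↥N)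
    (hC : ∀ g : ↥(Subgroup.centralizer ({z} : Set G)), (∀ n ∈ N, n * g = g * n) →
      g = 1 ∨ g = ⟨z, mem_cent_self' z⟩)
    (T : Sylow 2 ↥(Subgroup.centralizer ({z} : Set G))) :
    ¬ 2 ∣ ((T : Subgroup ↥(Subgroup.centralizer ({z} : Set G))).map
      (Subgroup.subtype (Subgroup.centralizer ({z} : Set G)))).index :=
  sylow_lift_aux z hz _ (fun x => by
    rw [Subgroup.mem_centralizer_iff]
    constructor
    · intro h; exact h z rfl
    · intro h y hy; rw [Set.mem_singleton_iff.mp hy]; exact h) (mem_cent_self' z) N hNn hN hC T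

end Cfsg.Agent.Helper9.Trv
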